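import Mathlib

/-! Weak approximation for finitely many `ℤ`-valued surjective valuations of a field. -/

set_option autoImplicit false

open WithZero

namespace Groth.Agent.DVRApprox

/-- A surjective `ℤᵐ⁰`-valued valuation of `K`. -/
def Pl (K : Type*) [Field K] : Type _ := {v : Valuation K ℤᵐ⁰ // Function.Surjective v}

/-- The order function of a surjective valuation. -/
def Pl.ord {K : Type*} [Field K] (P : Pl K) (x : K) : ℤ := -WithZero.log (P.1 x)

variable {K : Type*} [Field K]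

theorem val_ne_zero (P : Pl K) {x : K} (hx : x ≠ 0) : P.1 x ≠ 0 := (map_ne_zero P.1).2 hx

theorem val_eq_exp (P : Pl K) {x : K} (hx : x ≠ 0) : P.1 x = exp (-P.ord x) := by
  rw [Pl.ord, neg_neg, exp_log (val_ne_zero P hx)]

theorem val_le_exp_iff (P : Pl K) {x : K} (hx : x ≠ 0) (n : ℤ) : P.1 x ≤ exp n ↔ -n ≤ P.ord x := by
  rw [val_eq_exp P hx, exp_le_exp]; exact neg_le

theorem val_lt_exp_iff (P : Pl K) {x : K} (hx : x ≠ 0) (n : ℤ) : P.1 x < exp n ↔ -n < P.ord x := by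
  rw [val_eq_exp P hx, exp_lt_exp]; exact neg_lt

theorem val_le_one_iff (P : Pl K) {x : K} (hx : x ≠ 0) : P.1 x ≤ 1 ↔ 0 ≤ P.ord x := by
  have h := val_le_exp_iff P hx 0
  rwa [exp_zero, neg_zero] at h

theorem val_lt_one_iff (P : Pl K) {x : K} (hx : x ≠ 0) : P.1 x < 1 ↔ 0 < P.ord x := by
  have h := val_lt_exp_iff P hx 0
  rwa [exp_zero, neg_zero] at h

theorem val_eq_one_iff (P : Pl K) {x : K} (hx : x ≠ 0) : P.1 x = 1 ↔ P.ord x = 0 := by
  rw [val_eq_exp P hx, ← exp_zero, exp_inj, neg_eq_zero]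

@[simp] theorem ord_zero (P : Pl K) : P.ord (0 : K) = 0 := by simp [Pl.ord]

@[simp] theorem ord_one (P : Pl K) : P.ord (1 : K) = 0 := by simp [Pl.ord]

theorem ord_mul (P : Pl K) {x y : K} (hx : x ≠ 0) (hy : y ≠ 0) : P.ord (x * y) = P.ord x + P.ord y := by
  simp only [Pl.ord, map_mul, log_mul (val_ne_zero P hx) (val_ne_zero P hy), neg_add]

theorem ord_inv (P : Pl K) (x : K) : P.ord x⁻¹ = -P.ord x := by
  simp [Pl.ord, map_inv₀, log_inv]

theorem ord_div (P : Pl K) {x y : K} (hx : x ≠ 0) (hy : y ≠ 0) : P.ord (x / y) = P.ord x - P.ord y := by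
  rw [div_eq_mul_inv, ord_mul P hx (inv_ne_zero hy), ord_inv, sub_eq_add_neg]

theorem ord_pow (P : Pl K) (x : K) (n : ℕ) : P.ord (x ^ n) = n * P.ord x := by
  simp [Pl.ord, map_pow, log_pow]

theorem ord_zpow (P : Pl K) (x : K) (n : ℤ) : P.ord (x ^ n) = n * P.ord x := by
  simp [Pl.ord, map_zpow₀, log_zpow]

theorem ord_neg (P : Pl K) (x : K) : P.ord (-x) = P.ord x := by
  simp [Pl.ord, Valuation.map_neg]

theorem le_ord_add (P : Pl K) {x y : K} (h : x + y ≠ 0) : min (P.ord x) (P.ord y) ≤ P.ord (x + y) := by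
  rcases eq_or_ne x 0 with rfl | hx
  · simp
  rcases eq_or_ne y 0 with rfl | hy
  · simp
  have := P.1.map_add x y
  rw [le_max_iff, val_eq_exp P h, val_eq_exp P hx, val_eq_exp P hy, exp_le_exp, exp_le_exp] at this
  omega

theorem exists_val_eq (P : Pl K) (n : ℤ) : ∃ x : K, x ≠ 0 ∧ P.1 x = exp n := by
  obtain ⟨x, hx⟩ := P.2 (exp n)
  exact ⟨x, fun h => exp_ne_zero (a := n) (by rw [← hx, h, map_zero]), hx⟩

theorem exists_ord_eq (P : Pl K) (n : ℤ) : ∃ x : K, x ≠ 0 ∧ P.ord x = n := by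
  obtain ⟨x, hx, h⟩ := exists_val_eq P (-n)
  exact ⟨x, hx, by simp [Pl.ord, h]⟩

/-- A valuation ring inclusion between places is an equality. -/
theorem eq_of_forall_le_one {P Q : Pl K} (h : ∀ x : K, P.1 x ≤ 1 → Q.1 x ≤ 1) : P = Q := by
  have hlt : ∀ x : K, P.1 x < 1 → Q.1 x < 1 := by
    intro x hx
    refine lt_of_le_of_ne (h x hx.le) fun hQ => ?_
    rcases eq_or_ne x 0 with rfl | hx0
    · simp at hQ
    obtain ⟨y, hy0, hy⟩ := exists_val_eq Q 1
    obtain ⟨n, hn⟩ : ∃ n : ℕ, P.1 (y * x ^ n) ≤ 1 := by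
      refine ⟨(-P.ord y).toNat, (val_le_one_iff P (mul_ne_zero hy0 (pow_ne_zero _ hx0))).2 ?_⟩
      rw [ord_mul P hy0 (pow_ne_zero _ hx0), ord_pow]
      have h1 : 1 ≤ P.ord x := (val_lt_one_iff P hx0).1 hx
      nlinarith [Int.self_le_toNat (-P.ord y)]
    have h2 := h _ hn
    rw [map_mul, map_pow, hQ, one_pow, mul_one, hy, ← exp_zero, exp_le_exp] at h2
    omega
  have hiff : ∀ x : K, x ≠ 0 → P.ord x = 0 → Q.ord x = 0 := by
    intro x hx hP
    have h1 := (val_le_one_iff Q hx).1 (h x ((val_le_one_iff P hx).2 hP.ge))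
    have h2 := (val_le_one_iff Q (inv_ne_zero hx)).1
      (h x⁻¹ ((val_le_one_iff P (inv_ne_zero hx)).2 (by rw [ord_inv, hP, neg_zero])))
    rw [ord_inv] at h2; omega
  obtain ⟨t, ht, hPt⟩ := exists_ord_eq P 1
  have hkey : ∀ x : K, x ≠ 0 → Q.ord x = P.ord x * Q.ord t := by
    intro x hx
    have hz : x / t ^ P.ord x ≠ 0 := div_ne_zero hx (zpow_ne_zero _ ht)
    have := hiff _ hz (by rw [ord_div P hx (zpow_ne_zero _ ht), ord_zpow, hPt, mul_one, sub_self])
    rw [ord_div Q hx (zpow_ne_zero _ ht), ord_zpow] at this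
    linarith
  obtain ⟨s, hs, hQs⟩ := exists_ord_eq Q 1
  have htQ : 0 < Q.ord t := (val_lt_one_iff Q ht).1 (hlt t ((val_lt_one_iff P ht).2 (by omega)))
  have : Q.ord t = 1 := by
    have h1 := hkey s hs
    rw [hQs] at h1
    exact Int.eq_one_of_mul_eq_one_left htQ.le h1.symm
  apply Subtype.ext
  ext x
  rcases eq_or_ne x 0 with rfl | hx
  · simp
  rw [val_eq_exp P hx, val_eq_exp Q hx, hkey x hx, this, mul_one]

theorem exists_separating {P Q : Pl K} (h : P ≠ Q) : ∃ z : K, 1 < P.1 z ∧ Q.1 z < 1 := by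
  obtain ⟨a, ha1, ha2⟩ : ∃ a : K, P.1 a ≤ 1 ∧ 1 < Q.1 a := by
    by_contra! hc; exact h (eq_of_forall_le_one hc)
  obtain ⟨b, hb1, hb2⟩ : ∃ b : K, Q.1 b ≤ 1 ∧ 1 < P.1 b := by
    by_contra! hc; exact h (eq_of_forall_le_one hc).symm
  have ha : a ≠ 0 := fun h => by simp [h] at ha2
  have hb : b ≠ 0 := fun h => by simp [h] at hb2
  refine ⟨b / a, ?_, ?_⟩
  · rw [val_eq_exp P (div_ne_zero hb ha), ord_div P hb ha, ← exp_zero, exp_lt_exp]
    have := (val_le_one_iff P ha).1 ha1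
    have h2 : ¬ 0 ≤ P.ord b := fun h => not_le.2 hb2 ((val_le_one_iff P hb).2 h)
    omega
  · rw [val_lt_one_iff Q (div_ne_zero hb ha), ord_div Q hb ha]
    have := (val_le_one_iff Q hb).1 hb1
    have h2 : ¬ 0 ≤ Q.ord a := fun h => not_le.2 ha2 ((val_le_one_iff Q ha).2 h)
    omega

theorem val_one_add_of_one_lt (P : Pl K) {w : K} (h : 1 < P.1 w) : P.1 (1 + w) = P.1 w :=
  P.1.map_add_eq_of_lt_right (by rwa [map_one])

theorem val_one_add_of_lt_one (P : Pl K) {w : K} (h : P.1 w < 1) : P.1 (1 + w) = 1 := by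
  rw [P.1.map_add_eq_of_lt_left (by rwa [map_one]), map_one]

theorem exists_separating_finset (P : Pl K) (S : Finset (Pl K)) (hP : P ∉ S) :
    ∃ z : K, 1 < P.1 z ∧ ∀ Q ∈ S, Q.1 z < 1 := by
  classical
  induction S using Finset.induction_on with
  | empty =>
    obtain ⟨z, -, hz⟩ := exists_val_eq P 1
    exact ⟨z, by rw [hz, ← exp_zero, exp_lt_exp]; norm_num, by simp⟩
  | insert R S hRS ih =>
    simp only [Finset.mem_insert, not_or] at hP
    obtain ⟨z, hz1, hz2⟩ := ih hP.2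
    obtain ⟨y, hy1, hy2⟩ := exists_separating hP.1
    have hz : z ≠ 0 := fun h => by simp [h] at hz1
    have hy : y ≠ 0 := fun h => by simp [h] at hy1
    have hzP : ¬ 0 ≤ P.ord z := fun h => not_le.2 hz1 ((val_le_one_iff P hz).2 h)
    have hyP : ¬ 0 ≤ P.ord y := fun h => not_le.2 hy1 ((val_le_one_iff P hy).2 h)
    set N := 1 + S.sup fun Q => (-Q.ord y).toNat with hN
    have hPzy : 1 < P.1 (z ^ N * y) := by
      rw [map_mul, map_pow]
      exact one_lt_mul_of_le_of_lt (one_le_pow₀ hz1.le) hy1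
    have hSzy : ∀ Q ∈ S, Q.1 (z ^ N * y) < 1 := fun Q hQ => by
      rw [val_lt_one_iff Q (mul_ne_zero (pow_ne_zero _ hz) hy), ord_mul Q (pow_ne_zero _ hz) hy, ord_pow]
      have h1 := (val_lt_one_iff Q hz).1 (hz2 Q hQ)
      have h2 : (-Q.ord y).toNat + 1 ≤ N := by
        have := Finset.le_sup (f := fun Q : Pl K => (-Q.ord y).toNat) hQ
        omega
      have h3 := Int.self_le_toNat (-Q.ord y)
      nlinarith
    by_cases hR : R.1 z ≤ 1
    · refine ⟨z ^ N * y, hPzy, fun Q hQ => ?_⟩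
      rcases Finset.mem_insert.1 hQ with rfl | hQ
      · rw [map_mul, map_pow]
        exact mul_lt_one_of_nonneg_of_lt_one_right (pow_le_one₀ zero_le hR) zero_le hy2
      · exact hSzy Q hQ
    · rw [not_le] at hR
      refine ⟨z ^ N / (1 + z ^ N) * y, ?_, fun Q hQ => ?_⟩
      · have h1 : 1 < P.1 (z ^ N) := by rw [map_pow]; exact one_lt_pow₀ hz1 (by omega)
        rw [map_mul, map_div₀, val_one_add_of_one_lt P h1, div_self (val_ne_zero P (pow_ne_zero _ hz)), one_mul]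
        exact hy1
      · rcases Finset.mem_insert.1 hQ with rfl | hQ
        · have h1 : 1 < Q.1 (z ^ N) := by rw [map_pow]; exact one_lt_pow₀ hR (by omega)
          rw [map_mul, map_div₀, val_one_add_of_one_lt Q h1, div_self (val_ne_zero Q (pow_ne_zero _ hz)), one_mul]
          exact hy2
        · have h1 : Q.1 (z ^ N) < 1 := by rw [map_pow]; exact pow_lt_one₀ zero_le (hz2 Q hQ) (by omega)
          rw [map_mul, map_div₀, val_one_add_of_lt_one Q h1, div_one, ← map_mul]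
          exact hSzy Q hQ

/-- Weak approximation. -/
theorem exists_approx (S : Finset (Pl K)) (a : Pl K → K) (m : Pl K → ℤ) :
    ∃ x : K, ∀ P ∈ S, P.1 (x - a P) ≤ exp (m P) := by
  classical
  choose! z hz1 hz2 using fun P (_ : P ∈ S) => exists_separating_finset P (S.erase P) (Finset.notMem_erase P S)
  set B := 1 + ∑ P ∈ S, ∑ R ∈ S, (-(m P) - P.ord (a R)).toNat with hB
  let w : Pl K → K := fun R => z R ^ B / (1 + z R ^ B)
  refine ⟨∑ R ∈ S, a R * w R, fun P hP => ?_⟩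
  have hbound : ∀ R ∈ S, -(m P) - P.ord (a R) < (B : ℤ) := fun R hR => by
    have h0 : (-(m P) - P.ord (a R)).toNat ≤ ∑ P ∈ S, ∑ R ∈ S, (-(m P) - P.ord (a R)).toNat :=
      (Finset.single_le_sum (f := fun R => (-(m P) - P.ord (a R)).toNat) (fun _ _ => Nat.zero_le _) hR).trans
        (Finset.single_le_sum (f := fun P => ∑ R ∈ S, (-(m P) - P.ord (a R)).toNat) (fun _ _ => Nat.zero_le _) hP)
    omega
  have hmain : ∀ (R : Pl K) (u : K), R ∈ S → u = 0 ∨ (B : ℤ) ≤ P.ord u → P.1 (a R * u) ≤ exp (m P) := by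
    intro R u hR hu
    rcases eq_or_ne (a R) 0 with h0 | h0
    · simp [h0]
    rcases eq_or_ne u 0 with hu0 | hu0
    · simp [hu0]
    rw [val_le_exp_iff P (mul_ne_zero h0 hu0), ord_mul P h0 hu0]
    have := hbound R hR
    have := hu.resolve_left hu0
    omega
  rw [← Finset.add_sum_erase S _ hP, add_sub_right_comm]
  refine Valuation.map_add_le _ ?_ (Valuation.map_sum_le _ fun R hR => hmain R _ (Finset.mem_of_mem_erase hR) ?_)
  · rw [← mul_sub_one]
    refine hmain P _ hP ?_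
    have hzP : z P ≠ 0 := fun h => by have := hz1 P hP; simp [h] at this
    have h1 : 1 < P.1 (z P ^ B) := by rw [map_pow]; exact one_lt_pow₀ (hz1 P hP) (by omega)
    have hne : 1 + z P ^ B ≠ 0 := fun h => by
      have := val_one_add_of_one_lt P h1
      rw [h, map_zero] at this; rw [← this] at h1; simp at h1
    have he : w P - 1 = -(1 + z P ^ B)⁻¹ := by
      simp only [w, div_eq_mul_inv]
      linear_combination (mul_inv_cancel₀ hne)
    right
    rw [he, ord_neg, ord_inv]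
    have h2 : P.ord (1 + z P ^ B) = P.ord (z P ^ B) := by
      simp only [Pl.ord, val_one_add_of_one_lt P h1]
    have h3 : ¬ 0 ≤ P.ord (z P) := fun h => not_le.2 (hz1 P hP) ((val_le_one_iff P hzP).2 h)
    rw [h2, ord_pow]
    nlinarith
  · obtain ⟨hne, hR'⟩ := Finset.mem_erase.1 hR
    rcases eq_or_ne (z R) 0 with h0 | h0
    · left; simp [w, h0, zero_pow (by omega : B ≠ 0)]
    right
    have hlt := hz2 R hR' P (Finset.mem_erase.2 ⟨hne.symm, hP⟩)
    have h1 : P.1 (z R ^ B) < 1 := by rw [map_pow]; exact pow_lt_one₀ zero_le hlt (by omega)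
    have h2 : P.ord (w R) = P.ord (z R ^ B) := by
      simp only [Pl.ord, w, map_div₀, val_one_add_of_lt_one P h1, div_one]
    rw [h2, ord_pow]
    have := (val_lt_one_iff P h0).1 hlt
    nlinarith

end Groth.Agent.DVRApprox
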